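import Mathlib
import Cfsg.Agent.H39.SmallDeg.Eigen

/-!
A strict form of the congruence between the eigenvalues of integral operators of the normaliser.
-/

set_option autoImplicit false
set_option linter.unusedSectionVars false

namespace Cfsg.Agent.H40.SmallDeg

open Polynomial Matrix IsLocalRing
open Cfsg.Agent.H31.Defect Cfsg.Agent.H39.SmallDeg

variable {p : ℕ} [hp : Fact p.Prime]
variable {G : Type*} [Group G] [Finite G] {z : G} {d : ℕ} {O : ValuationSubring ℂ}

/-- For an integral matrix commuting with the normaliser there is a scalar strictly close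
to all its eigenvalues, when the eigenprojections have no exact denominators. -/
theorem exists_scalar_close_lt (hz : orderOf z = p) (hsq : ¬ p ^ 2 ∣ Nat.card G)
    (A : G →* Matrix (Fin d) (Fin d) ℂ) (hint : ∀ g, IntMat O (A g))
    (hschur : ∀ Φ : Matrix (Fin d) (Fin d) ℂ, (∀ g, Commute Φ (A g)) → ∃ c : ℂ, Φ = c • 1)
    {E : Finset (ZMod p)} (hE : Polynomial.aeval (A z) (qPoly E) = 0)
    {Φ : Matrix (Fin d) (Fin d) ℂ} (hΦint : IntMat O Φ)
    (hΦ : ∀ g ∈ Subgroup.normalizer ((Subgroup.zpowers z : Subgroup G) : Set G),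
      Commute Φ (A g))
    (hsmall : ∀ j ∈ E, ∀ a b, O.valuation (Polynomial.aeval (A z) (qPoly (E.erase j)) a b) < 1) :
    ∃ c : ℂ, ∀ j ∈ E, ∀ (v : Fin d → ℂ) (φ : ℂ), v ≠ 0 → A z *ᵥ v = rt j • v → Φ *ᵥ v = φ • v →
      O.valuation (c - φ) * O.valuation (rt (1 : ZMod p) - 1) ^ (E.card - 1) <
        O.valuation (rt (1 : ZMod p) - 1) ^ (p - 1) := by
  classical
  set N := Subgroup.normalizer ((Subgroup.zpowers z : Subgroup G) : Set G) with hN
  let _ : Fintype (G ⧸ N) := Fintype.ofFinite _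
  let B : G ⧸ N → Matrix (Fin d) (Fin d) ℂ := fun q => A q.out * Φ * A q.out⁻¹
  have hBg : ∀ g : G, B (g : G ⧸ N) = A g * Φ * A g⁻¹ := by
    intro g
    obtain ⟨h, hh⟩ := QuotientGroup.mk_out_eq_mul N g
    show A (g : G ⧸ N).out * Φ * A (g : G ⧸ N).out⁻¹ = _
    rw [hh, map_mul, _root_.mul_inv_rev, map_mul, mul_assoc (A g), ← (hΦ _ h.2).eq,
      mul_assoc (A g), mul_assoc Φ, ← mul_assoc (A (h : G)), ← map_mul, mul_inv_cancel, map_one,
      one_mul, mul_assoc]
  have hequiv : ∀ (x : G) (q : G ⧸ N), B (x • q) * A x = A x * B q := by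
    intro x q
    obtain ⟨g, rfl⟩ := QuotientGroup.mk_surjective q
    rw [MulAction.Quotient.smul_coe, hBg, hBg, smul_eq_mul]
    have e : A (x * g)⁻¹ * A x = A g⁻¹ := by
      rw [← map_mul]
      congr 1
      group
    rw [mul_assoc, e, map_mul]
    simp only [mul_assoc]
  obtain ⟨c, hc⟩ := hschur (∑ q, B q) fun x => by
    show (∑ q, B q) * A x = A x * ∑ q, B q
    rw [Finset.sum_mul, Finset.mul_sum]
    exact (Fintype.sum_equiv (MulAction.toPerm x) _ _ fun q => (hequiv x q).symm).symm
  refine ⟨c, ?_⟩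
  set q₁ : G ⧸ N := ((1 : G) : G ⧸ N) with hq₁
  have hfix : z • q₁ = q₁ := by
    rw [hq₁, MulAction.Quotient.smul_coe, QuotientGroup.eq]
    simpa using Subgroup.le_normalizer (Subgroup.mem_zpowers z)
  set Z := A z with hZdef
  have hZp : Z ^ p = 1 := by rw [hZdef, ← map_pow, ← hz, pow_orderOf_eq_one, map_one]
  obtain ⟨h, hh, hsum⟩ := exists_sum_free_orbits hz hZp (IntMat O)
    (fun i j => by simp) (fun a b ha hb i j => Valuation.map_add_le _ (ha i j) (hb i j)) B
    (fun q => ((hint _).mul hΦint).mul (hint _)) (fun q => hequiv z q) _ (Finset.univ.erase q₁)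
    le_rfl (fun q hq => Finset.mem_erase.2 ⟨fun e => Finset.ne_of_mem_erase hq
      (MulAction.injective z (e.trans hfix.symm)), Finset.mem_univ _⟩) (by
    intro q hq j hj e
    obtain ⟨g, rfl⟩ := QuotientGroup.mk_surjective q
    refine Finset.ne_of_mem_erase hq ?_
    rw [MulAction.Quotient.smul_coe, smul_eq_mul, QuotientGroup.eq, _root_.mul_inv_rev] at e
    have hmem : g⁻¹ * z ^ j * g ∈ N := by
      have := N.inv_mem e
      simpa [mul_assoc] using this
    rw [hq₁, QuotientGroup.eq, mul_one]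
    exact N.inv_mem (mem_normalizer_of_fixed hz hsq hj hmem))
  have hX : c • (1 : Matrix (Fin d) (Fin d) ℂ) - Φ =
      ∑ i ∈ Finset.range p, Z ^ i * h * (Z ^ (p - 1)) ^ i := by
    rw [← hsum, ← hc, ← Finset.add_sum_erase _ _ (Finset.mem_univ q₁), hq₁, hBg]
    simp
  intro j hj v φ hv hzv hΦv
  -- the eigenprojection, up to a scalar
  set cc : ℂ := rt j ^ (p - 1) with hcc
  have hccj : cc * rt j = 1 := by
    rw [hcc, ← pow_succ, Nat.sub_add_cancel hp.out.one_le, rt_pow_p]
  set S : Matrix (Fin d) (Fin d) ℂ := ∑ i ∈ Finset.range p, cc ^ i • Z ^ i with hS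
  set Q := Polynomial.aeval Z (qPoly (E.erase j)) with hQ
  have hZS : Z * S = rt j • S := by
    have h1 := mul_geom_sum (cc • Z) p
    rw [_root_.smul_pow, hZp, hcc, ← pow_mul, mul_comm (p - 1), pow_mul, rt_pow_p, one_pow, one_smul,
      sub_self, ← hcc] at h1
    simp only [_root_.smul_pow] at h1
    rw [← hS, sub_mul, one_mul, sub_eq_zero, smul_mul_assoc] at h1
    calc Z * S = (rt j * cc) • (Z * S) := by rw [mul_comm, hccj, one_smul]
      _ = rt j • S := by rw [mul_smul, h1]
  have hqS : ∀ T : Finset (ZMod p),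
      Polynomial.aeval Z (qPoly T) * S = (qPoly T).eval (rt j) • S := by
    intro T
    induction T using Finset.induction_on with
    | empty => simp [qPoly]
    | insert a s ha ih =>
      simp only [qPoly, Finset.prod_insert ha, map_mul, Polynomial.eval_mul] at ih ⊢
      rw [mul_assoc, ih, mul_smul_comm, map_sub, Polynomial.aeval_X, Polynomial.aeval_C,
        Algebra.algebraMap_eq_smul_one, sub_mul, hZS, smul_mul_assoc, one_mul, ← sub_smul,
        smul_smul, mul_comm, Polynomial.eval_sub, Polynomial.eval_X, Polynomial.eval_C]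
  have hZQ : Z * Q = rt j • Q := by
    have e : (Polynomial.X - Polynomial.C (rt j)) * qPoly (E.erase j) = qPoly E := by
      rw [qPoly, qPoly, Finset.mul_prod_erase E
        (fun k => Polynomial.X - Polynomial.C (rt k)) hj]
    have h0 := hE
    rw [← e, map_mul, map_sub, Polynomial.aeval_X, Polynomial.aeval_C,
      Algebra.algebraMap_eq_smul_one, sub_mul, smul_mul_assoc, one_mul, sub_eq_zero] at h0
    exact h0
  have hZiQ : ∀ i : ℕ, Z ^ i * Q = rt j ^ i • Q := fun i => by
    induction i with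
    | zero => simp
    | succ i ih => rw [pow_succ', mul_assoc, ih, mul_smul_comm, hZQ, smul_smul, ← pow_succ]
  have hSQ : S * Q = (p : ℂ) • Q := by
    rw [hS, Finset.sum_mul, Finset.sum_congr rfl fun i _ => by
      rw [smul_mul_assoc, hZiQ, smul_smul, ← mul_pow, hccj, one_pow, one_smul]]
    rw [Finset.sum_const, Finset.card_range, ← Nat.cast_smul_eq_nsmul ℂ]
  have hcomm : Commute S Q := by
    refine Commute.sum_left _ _ _ fun i _ => ((?_ : Commute Z Q).pow_left i).smul_left _
    rw [hQ]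
    simpa only [Polynomial.aeval_X] using
      (Commute.all (Polynomial.X : Polynomial ℂ) (qPoly (E.erase j))).map (Polynomial.aeval Z)
  set γ := (qPoly (E.erase j)).eval (rt j) with hγ
  have hγS : γ • S = (p : ℂ) • Q := by rw [← hqS, ← hcomm.eq, hSQ]
  -- apply the average to the eigenvector
  have hZ1 : ∀ i : ℕ, (Z ^ (p - 1)) ^ i *ᵥ v = cc ^ i • v := by
    intro i
    rw [← pow_mul, hcc, ← pow_mul]
    induction (p - 1) * i with
    | zero => simp
    | succ m ihm => rw [pow_succ, ← Matrix.mulVec_mulVec, hzv, Matrix.mulVec_smul, ihm, smul_smul,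
        ← pow_succ']
  have key : (γ * (c - φ)) • v = (p : ℂ) • ((Q * h) *ᵥ v) := by
    have h1 : (c - φ) • v = (S * h) *ᵥ v := by
      have := congrArg (fun M : Matrix (Fin d) (Fin d) ℂ => M *ᵥ v) hX
      simp only [Matrix.sub_mulVec, Matrix.smul_mulVec, Matrix.one_mulVec, hΦv,
        Matrix.sum_mulVec] at this
      rw [sub_smul, this, hS, Finset.sum_mul, Matrix.sum_mulVec]
      refine Finset.sum_congr rfl fun i _ => ?_
      rw [← Matrix.mulVec_mulVec, hZ1, Matrix.mulVec_smul, smul_mul_assoc, Matrix.smul_mulVec]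
    rw [mul_smul, h1, ← Matrix.smul_mulVec, ← smul_mul_assoc, hγS, smul_mul_assoc,
      Matrix.smul_mulVec]
  obtain ⟨i₀, -, hmax⟩ := Finset.exists_max_image (Finset.univ : Finset (Fin d))
    (fun i => O.valuation (v i)) ⟨_, Finset.mem_univ (Function.ne_iff.1 hv).choose⟩
  have hvi : O.valuation (v i₀) ≠ 0 := by
    obtain ⟨i, hi⟩ := Function.ne_iff.1 hv
    intro h0
    have := hmax i (Finset.mem_univ _)
    rw [h0, le_zero_iff, map_eq_zero] at this
    exact hi this
  have hb : O.valuation (((Q * h) *ᵥ v) i₀) < O.valuation (v i₀) := by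
    rw [Matrix.mulVec, dotProduct]
    refine Valuation.map_sum_lt _ hvi fun l _ => ?_
    rw [map_mul]
    have hQh : O.valuation ((Q * h) i₀ l) < 1 := by
      rw [Matrix.mul_apply]
      refine Valuation.map_sum_lt _ zero_ne_one.symm fun n _ => ?_
      rw [map_mul]
      exact lt_of_le_of_lt (mul_le_of_le_one_right zero_le (hh n l)) (hsmall j hj i₀ n)
    refine lt_of_le_of_lt (mul_le_mul_right (hmax l (Finset.mem_univ _)) _) ?_
    exact mul_lt_of_lt_one_left (zero_lt_iff.2 hvi) hQh
  have h2 := congrArg O.valuation (congrFun key i₀)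
  rw [Pi.smul_apply, Pi.smul_apply, smul_eq_mul, smul_eq_mul, map_mul, map_mul, map_mul, hγ,
    val_qPoly_eval (Finset.notMem_erase _ _), Finset.card_erase_of_mem hj, val_prime] at h2
  refine lt_of_mul_lt_mul_right (a := O.valuation (v i₀)) ?_ zero_le
  rw [mul_comm (O.valuation (c - φ)), h2]
  exact mul_lt_mul_of_pos_left hb (zero_lt_iff.2 (pow_ne_zero _ val_pi_ne_zero))

end Cfsg.Agent.H40.SmallDeg
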